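import Cfsg.Agent.H788.RatB.Rat_m3
import Cfsg.Agent.H769.PB.CoThreeRank5
import Cfsg.Agent.H345.K4.Co2
import Cfsg.Agent.BpSpor.CoThreeTF
import Cfsg.Agent.BpSpor.CoThreeCent
import Cfsg.Agent.Prune
set_option linter.all false
prune_inst 0x7f00000000000000000000000000000000000000000000000000000000000000000000000000000000000000000000000000000000000000000000000000000000000000000000000000000000000000003fffffffffffffffffffffffffffbeffbdffffffff
open scoped Cfsg.Agent.FastGrp

/-!
# S4891 (TEAM B0-RAT), the sporadic row `Co3` (helper848)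

* `witR_three` : `p = 3`, the doubly transitive action on 276 points;
* `witR_five` : `p = 5`, the character of degree 23; `125` does not divide the order of the centralizer of an element of
  prime order different from 5.
-/

set_option autoImplicit false

namespace Cfsg.Agent.H848.RatB.Co3

open Cfsg Subgroup Cfsg.Agent.Blocks Cfsg.Agent.H145.BR Cfsg.Agent.H493.RatB
open Cfsg.Agent.SporRec.Co3.Chain Cfsg.Agent.SporRec.Co3.Ident
open Cfsg.Agent.SporRec.Co3.Model (equivCo3)
open Cfsg.Agent.SigZero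

universe u

/-! ### `p = 3` -/

theorem three_co3 : WitR 3 Spor.Co3 := by
  have := Fintype.ofFinite Spor.Co3
  have : Fact (Nat.Prime 3) := ⟨Nat.prime_three⟩
  obtain ⟨θ, hθ, -, -⟩ := H769.PB.CoThreeRank5.exists_275
  have h2 := H843.IMC.Co3A.two_trans
  have hpt : MulAction.IsPretransitive Spor.Co3 H843.IMC.Co3A.Y :=
    MulAction.isPretransitive_of_is_two_pretransitive (h2 := h2)
  have hne : Nonempty H843.IMC.Co3A.Y := by
    by_contra h
    rw [not_nonempty_iff] at h
    have h1 := H843.IMC.Co3A.card_Y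
    rw [Nat.card_of_isEmpty] at h1
    omega
  refine witR_of_sum (X := H843.IMC.Co3A.Y) (ι := Unit) (by rw [H843.IMC.Co3A.card_Y]; norm_num) {()} (fun _ => 1)
    (fun _ => θ) (fun g => ?_) fun _ _ _ => RatV.of_int fun g => ⟨(Nat.card (MulAction.fixedBy H843.IMC.Co3A.Y g) : ℤ) - 1, ?_⟩
  · rw [Finset.sum_singleton, Nat.cast_one, one_mul, hθ, add_sub_cancel]
    rfl
  · rw [hθ]
    push_cast
    rfl

/-! ### centralizers -/

theorem finite_G3 : Finite G3 := Nat.finite_of_card_ne_zero (by rw [isCo3_G3.2]; norm_num)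

theorem phi_inj (H : Subgroup G3) : Function.Injective (G3.subtype.comp H.subtype) :=
  (subtype_injective _).comp (subtype_injective _)

theorem not_dvd_three {x : G3} (hx : orderOf x = 3) : ¬ 25 ∣ Nat.card ↥(centralizer ({x} : Set G3)) := by
  have := finite_G3
  refine BpSpor.CoThreeTF.not_dvd (H := ↥(centralizer ({x} : Set G3))) PreUniqCo.Facts.facts
      (φ := G3.subtype.comp (centralizer ({x} : Set G3)).subtype) (v := Spor.leechV)
      (x := ⟨x, mem_centralizer_singleton_iff.2 rfl⟩) (phi_inj _) PreUniqCo.Rows.leechV_ne ?_ ?_ ?_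
  · intro h
    exact (h : G3).2
  · rw [Subgroup.orderOf_mk, hx]
  · intro g
    exact Subtype.ext (mem_centralizer_singleton_iff.1 g.2)

theorem not_dvd_big {y : G3} {r : ℕ} (hr : r.Prime) (h7 : 7 ≤ r) (hy : orderOf y = r) :
    ¬ 5 ∣ Nat.card ↥(centralizer ({y} : Set G3)) := by
  have := finite_G3
  intro hd
  have : Fact (Nat.Prime 5) := ⟨Nat.prime_five⟩
  obtain ⟨⟨x, hx⟩, hx5⟩ := exists_prime_orderOf_dvd_card' 5 hd
  rw [Subgroup.orderOf_mk] at hx5
  refine CpAutCoFive.not_prime (H := ↥(centralizer ({x} : Set G3)))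
      (φ := G3.subtype.comp (centralizer ({x} : Set G3)).subtype) (v := Spor.leechV)
      (x := ⟨x, mem_centralizer_singleton_iff.2 rfl⟩) (phi_inj _) PreUniqCo.Rows.leechV_ne ?_ ?_ ?_ hr h7 ?_
  · intro h
    exact (h : G3).2
  · rw [Subgroup.orderOf_mk, hx5]
  · intro g
    exact Subtype.ext (mem_centralizer_singleton_iff.1 g.2)
  · have h1 : y ∈ centralizer ({x} : Set G3) := by
      rw [mem_centralizer_singleton_iff] at hx ⊢
      exact hx.symm
    rw [← hy]
    have h2 := orderOf_dvd_natCard (⟨y, h1⟩ : ↥(centralizer ({x} : Set G3)))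
    rwa [Subgroup.orderOf_mk] at h2

theorem card_centralizer_equiv {X Y : Type*} [Group X] [Group Y] (e : X ≃* Y) (t : X) :
    Nat.card ↥(centralizer ({e t} : Set Y)) = Nat.card ↥(centralizer ({t} : Set X)) := by
  have h3 : (centralizer ({t} : Set X)).map e.toMonoidHom = centralizer ({e t} : Set Y) := by
    ext z
    rw [mem_centralizer_singleton_iff]
    constructor
    · rintro ⟨a, ha, rfl⟩
      rw [SetLike.mem_coe, mem_centralizer_singleton_iff] at ha
      change e a * e _ = e _ * e a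
      rw [← map_mul, ha, map_mul]
    · intro ha
      refine ⟨e.symm z, mem_centralizer_singleton_iff.2 ?_, e.apply_symm_apply z⟩
      apply e.injective
      rw [map_mul, map_mul, e.apply_symm_apply, ha]
  rw [← h3, card_map_of_injective (f := e.toMonoidHom) e.injective]

theorem card_C_dvd : Nat.card CoThreeB.C ∣ 2 * 95040 := by
  have := finite_G3
  have hf : Finite CoThreeB.K := by
    obtain ⟨e⟩ := SigZero.CoThree.exists_equiv
    exact Finite.of_equiv _ e.symm.toEquiv
  have h1 : Nat.card CoThreeB.proj.ker ∣ 2 := by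
    have h2 : Nat.card CoThreeB.proj.ker ≤ 2 := by
      have h2 : (CoThreeB.proj.ker : Set CoThreeB.C) ⊆ {1, ⟨CoThreeB.wK, CoThreeB.mem_C.2 rfl⟩} := by
        intro g hg
        rcases CoThreeB.ker_proj hg with h | h
        · exact Or.inl h
        · exact Or.inr (Subtype.ext h)
      have h3 := Set.ncard_le_ncard h2 (Set.toFinite _)
      rw [← Nat.card_coe_set_eq] at h3
      exact h3.trans (Set.ncard_insert_le _ _ |>.trans (by rw [Set.ncard_singleton]))
    have h3 : Nat.card CoThreeB.proj.ker ≠ 0 := Nat.card_pos.ne'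
    interval_cases h : Nat.card CoThreeB.proj.ker
    · exact absurd rfl h3
    · exact one_dvd _
    · exact dvd_refl _
  have h2 := Subgroup.card_mul_index CoThreeB.proj.ker
  rw [Subgroup.index_ker, MonoidHom.range_eq_top.mpr CoThreeB.proj_surj, Subgroup.card_top,
    MTwelveType.SylowModel.card_M12] at h2
  rw [← h2]
  exact Nat.mul_dvd_mul_right h1 _

theorem not_dvd_two {t : G3} (ht : orderOf t = 2) : ¬ 25 ∣ Nat.card ↥(centralizer ({t} : Set G3)) := by
  have := finite_G3
  have ht2 : t * t = 1 := by rw [← pow_two, ← ht, pow_orderOf_eq_one]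
  have ht1 : t ≠ 1 := by
    rintro rfl
    rw [orderOf_one] at ht
    norm_num at ht
  obtain ⟨e⟩ := SigZero.CoThree.exists_equiv
  have hf : Finite CoThreeB.K := Finite.of_equiv _ e.symm.toEquiv
  have hw2 : e CoThreeB.wK * e CoThreeB.wK = 1 := by rw [← map_mul, CoThreeB.wK_sq, map_one]
  have hw1 : e CoThreeB.wK ≠ 1 := by
    intro h
    exact CoThreeB.wK_ne ((map_eq_one_iff e e.injective).1 h)
  have hc : Nat.card (centralizer ({e CoThreeB.wK} : Set G3)) ∣ 2 * 95040 := by
    rw [card_centralizer_equiv]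
    exact card_C_dvd
  have hconj : ∀ g z : G3, Nat.card (centralizer ({g * z * g⁻¹} : Set G3)) = Nat.card (centralizer ({z} : Set G3)) := by
    intro g z
    exact card_centralizer_equiv (MulAut.conj g) z
  rcases SigZero.CoThree.classes hw2 hw1 (Nat.le_of_dvd (by norm_num) hc) ht2 ht1 with ⟨g, hg⟩ | ⟨g, hg⟩
  · rw [← hg, hconj, KFacts.Co3.Syl.card_Z]
    norm_num
  · intro h
    rw [← hg, hconj] at h
    have h1 := h.trans hc
    norm_num at h1

theorem not_dvd_G3 (y : G3) (hy : (orderOf y).Prime) (h5 : orderOf y ≠ 5) :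
    ¬ 5 ^ 3 ∣ Nat.card ↥(centralizer ({y} : Set G3)) := by
  intro hd
  by_cases h7 : 7 ≤ orderOf y
  · exact not_dvd_big hy h7 rfl (dvd_trans (by norm_num) hd)
  · have h25 : 25 ∣ Nat.card ↥(centralizer ({y} : Set G3)) := dvd_trans (by norm_num) hd
    have h2 := hy.two_le
    have h4 : orderOf y ≠ 4 := by intro h; rw [h] at hy; norm_num at hy
    have h6 : orderOf y ≠ 6 := by intro h; rw [h] at hy; norm_num at hy
    have h8 : orderOf y = 2 ∨ orderOf y = 3 := by omega
    rcases h8 with h | h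
    · exact not_dvd_two h h25
    · exact not_dvd_three h h25

theorem not_dvd_co3 (y : Spor.Co3) (hy : (orderOf y).Prime) (h5 : orderOf y ≠ 5) :
    ¬ 5 ^ 3 ∣ Nat.card ↥(centralizer ({y} : Set Spor.Co3)) := by
  obtain ⟨x, rfl⟩ := equivCo3.surjective y
  rw [card_centralizer_equiv]
  rw [MulEquiv.orderOf_eq] at hy h5
  exact not_dvd_G3 x hy h5

/-! ### `p = 5` -/

theorem five_co3 : WitR 5 Spor.Co3 := by
  have : Fact (Nat.Prime 5) := ⟨Nat.prime_five⟩
  obtain ⟨μ, hμ⟩ := H843.IMC.Co3A.exists_mu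
  have hd := H769.PB.RowCoTwo.deg_mu hμ
  refine witR_of_card (a := 3) (by rw [H843.IMC.Co3A.card_co3]; norm_num) not_dvd_co3 μ ?_ (by rw [hd]; norm_num)
    fun g => ⟨(Cfsg.Agent.Co2Type.Mono.tr8 (H419.Spor.Co3.inc g) : ℚ) / 8 - 1, ?_⟩
  · intro h
    have h1 := Blocks.Basic.irr_one_eq_charDegree μ.2
    rw [hd, h] at h1
    norm_num at h1
  · have h1 := hμ g
    rw [Cfsg.Agent.H419.LeechIrr.lchi] at h1
    push_cast
    rw [eq_sub_iff_add_eq, add_comm, ← h1]

variable {S : Type u} [Group S]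

/-- **Row `Co3`, `p = 3`.** -/
theorem witR_three (h : Spor.IsoCo3 S) : WitR 3 S := by
  obtain ⟨e⟩ := h
  have : Finite S := Finite.of_equiv _ e.symm.toEquiv
  exact WitR.congr e three_co3

/-- **Row `Co3`, `p = 5`.** -/
theorem witR_five (h : Spor.IsoCo3 S) : WitR 5 S := by
  obtain ⟨e⟩ := h
  have : Finite S := Finite.of_equiv _ e.symm.toEquiv
  exact WitR.congr e five_co3

end Cfsg.Agent.H848.RatB.Co3
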